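import Groth.Agent.Quiet5.TowerOps
import Groth.Agent.Frob15.EtaleRelFrob
import Mathlib.RingTheory.Etale.Basic

/-!
# Étale algebras descend along root towers in characteristic `p`
-/

set_option autoImplicit false
set_option linter.style.haveILetI false

universe u

open Polynomial TensorProduct

namespace Quiet5

variable {p : ℕ}

theorem natCast_eq_zero_of_algebra (A : Type u) {B : Type u} [CommRing A] [CommRing B] [Algebra A B]
    (h : (p : A) = 0) : (p : B) = 0 := by
  rw [← map_natCast (algebraMap A B), h, map_zero]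

theorem add_pow_of_eq_zero [hp : Fact p.Prime] {B : Type u} [CommRing B] (h : (p : B) = 0) (x y : B) :
    (x + y) ^ p = x ^ p + y ^ p := by
  obtain ⟨r, hr⟩ := exists_add_pow_prime_eq hp.out x y
  rw [hr, h, zero_mul, zero_mul, zero_mul, add_zero]

theorem pow_mem_range_rootRing [hp : Fact p.Prime] (A : Type u) [CommRing A] (h : (p : A) = 0) (a : A)
    (x : Quiet.RootRing p A a) : x ^ p ∈ (algebraMap A (Quiet.RootRing p A a)).range := by
  induction x using AdjoinRoot.induction_on with
  | ih g =>
    induction g using Polynomial.induction_on' with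
    | add u v hu hv =>
      rw [map_add, add_pow_of_eq_zero (natCast_eq_zero_of_algebra A h)]
      exact add_mem hu hv
    | monomial n c =>
      refine ⟨c ^ p * a ^ n, ?_⟩
      rw [← C_mul_X_pow_eq_monomial, map_mul (AdjoinRoot.mk _), map_pow (AdjoinRoot.mk _), AdjoinRoot.mk_C,
        AdjoinRoot.mk_X, mul_pow, ← pow_mul, mul_comm n p, pow_mul, map_mul, map_pow, map_pow]
      have h0 := AdjoinRoot.eval₂_root (X ^ p - C a : A[X])
      rw [eval₂_sub, eval₂_X_pow, eval₂_C, sub_eq_zero] at h0
      rw [h0]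
      rfl

theorem algebraMap_rootRing_injective [hp : Fact p.Prime] (A : Type u) [CommRing A] (a : A) :
    Function.Injective (algebraMap A (Quiet.RootRing p A a)) := by
  have hg : (X ^ p - C a : A[X]).Monic := monic_X_pow_sub_C a hp.out.ne_zero
  intro x y hxy
  rcases subsingleton_or_nontrivial A with hA | hA
  · exact Subsingleton.elim _ _
  have hi : 0 < (X ^ p - C a : A[X]).natDegree := by rw [natDegree_X_pow_sub_C]; exact hp.out.pos
  have h1 := congrArg (fun z => (AdjoinRoot.powerBasisAux' hg).repr z ⟨0, hi⟩) hxy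
  have h2 : ∀ x : A, (AdjoinRoot.powerBasisAux' hg).repr (algebraMap A (Quiet.RootRing p A a) x) ⟨0, hi⟩ = x := by
    intro x
    show (AdjoinRoot.modByMonicHom hg (AdjoinRoot.mk _ (C x))).coeff 0 = x
    rw [AdjoinRoot.modByMonicHom_mk, (modByMonic_eq_self_iff hg).2 ?_, coeff_C_zero]
    exact degree_C_le.trans_lt (natDegree_pos_iff_degree_pos.1 hi)
  exact (h2 x).symm.trans (h1.trans (h2 y))

attribute [local instance] Algebra.TensorProduct.rightAlgebra in
set_option maxHeartbeats 400000 in
/-- An étale algebra over `A[x]/(x^p - a)` comes from an étale `A`-algebra. -/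
theorem exists_descent_step [hp : Fact p.Prime] (A R C : Type u) [CommRing A] [CommRing R] [CommRing C] [Algebra A R]
    [Algebra A C] [Algebra R C] [IsScalarTower A R C] [Algebra.Etale R C] (h : (p : A) = 0)
    (hinj : Function.Injective (algebraMap A R)) (hpow : ∀ r : R, r ^ p ∈ (algebraMap A R).range) :
    ∃ (C' : Type u) (_ : CommRing C') (_ : Algebra A C') (_ : Algebra C' C) (_ : IsScalarTower A C' C),
      Algebra.Etale A C' ∧ Algebra.IsPushout A R C' C := by
  rcases subsingleton_or_nontrivial C with hC | hC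
  · haveI : IsLocalization.Away (0 : A) C  :=
      { map_units := fun _ => isUnit_of_subsingleton _
        surj := fun z => ⟨(0, 1), Subsingleton.elim _ _⟩
        exists_of_eq := fun {x y} _ => ⟨⟨0, Submonoid.mem_powers 0⟩, by simp⟩ }
    refine ⟨C, inferInstance, inferInstance, Algebra.id C, inferInstance, Algebra.Etale.of_isLocalizationAway (0 : A), ?_⟩
    haveI : Subsingleton (R ⊗[A] C) := subsingleton_of_zero_eq_one (by
      rw [Algebra.TensorProduct.one_def, Subsingleton.elim (1 : C) 0, TensorProduct.tmul_zero])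
    exact Algebra.IsPushout.of_equiv (S' := R ⊗[A] C)
      (AlgEquiv.ofBijective (Algebra.TensorProduct.lift (Algebra.ofId R C) (AlgHom.id A C) fun _ _ => Commute.all _ _)
        ⟨fun x y _ => Subsingleton.elim x y, fun y => ⟨0, Subsingleton.elim _ _⟩⟩)
      (RingHom.ext fun x => Subsingleton.elim _ _)
  haveI : Nontrivial R := (algebraMap R C).domain_nontrivial
  haveI : Nontrivial A := (algebraMap A R).domain_nontrivial
  haveI : CharP R p := ringChar.of_eq (CharP.ringChar_of_prime_eq_zero hp.out (natCast_eq_zero_of_algebra A h))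
  haveI : CharP C p := ringChar.of_eq (CharP.ringChar_of_prime_eq_zero hp.out (natCast_eq_zero_of_algebra A h))
  choose f hf using hpow
  let ψ : R →+* A :=
    { toFun := f
      map_one' := hinj (by rw [hf, one_pow, map_one])
      map_mul' := fun x y => hinj (by rw [map_mul, hf, hf, hf, mul_pow])
      map_zero' := hinj (by rw [hf, zero_pow hp.out.ne_zero, map_zero])
      map_add' := fun x y => hinj (by rw [map_add, hf, hf, hf, add_pow_of_eq_zero (natCast_eq_zero_of_algebra A h)]) }
  letI : Algebra R A := ψ.toAlgebra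
  let T := FrobAlg.Twist p R
  letI : Algebra A T := ((FrobAlg.toTwist p R).toRingHom.comp (algebraMap A R)).toAlgebra
  haveI : IsScalarTower R A T := IsScalarTower.of_algebraMap_eq fun r =>
    (FrobAlg.algebraMap_twist p R r).trans (congrArg (FrobAlg.toTwist p R) (hf r).symm)
  let C' := A ⊗[R] C
  haveI : Algebra.Etale A C' := inferInstance
  let tw : R ≃ₐ[A] T := AlgEquiv.ofRingEquiv (f := FrobAlg.toTwist p R) fun _ => rfl
  let e₁ : R ⊗[A] C' ≃ₐ[A] T ⊗[A] C' := Algebra.TensorProduct.congr tw AlgEquiv.refl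
  let e₂ := Algebra.TensorProduct.cancelBaseChange R A T T C
  let e₃ := Algebra.TensorProduct.comm R T C
  let e₄ : C ⊗[R] T ≃+* C := RingEquiv.ofBijective (FrobAlg.relFrob p R C)
    ((Groth.Agent.Frob15.etale_iff_bijective_relFrob p R C).1 inferInstance)
  let E : R ⊗[A] C' ≃+* C := ((e₁.toRingEquiv.trans e₂.toRingEquiv).trans e₃.toRingEquiv).trans e₄
  have hE : ∀ (r : R) (a : A) (c : C), E (r ⊗ₜ[A] (a ⊗ₜ[R] c)) = c ^ p * algebraMap R C (algebraMap A R a * r) := by
    intro r a c
    have h1 : e₁ (r ⊗ₜ[A] (a ⊗ₜ[R] c)) = tw r ⊗ₜ[A] (a ⊗ₜ[R] c) := by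
      simp only [e₁, Algebra.TensorProduct.congr_apply, Algebra.TensorProduct.map_tmul]
      rfl
    have h2 : e₂ (tw r ⊗ₜ[A] (a ⊗ₜ[R] c)) = (a • tw r) ⊗ₜ[R] c := by
      simp only [e₂, Algebra.TensorProduct.cancelBaseChange_tmul]
    have h4 : (FrobAlg.toTwist p R).symm (a • tw r) = algebraMap A R a * r := by
      rw [Algebra.smul_def, map_mul]
      rfl
    show e₄ (e₃ (e₂ (e₁ (r ⊗ₜ[A] (a ⊗ₜ[R] c))))) = _
    rw [h1, h2]
    show FrobAlg.relFrob p R C (e₃ ((a • tw r) ⊗ₜ[R] c)) = _
    rw [show e₃ ((a • tw r) ⊗ₜ[R] c) = c ⊗ₜ[R] (a • tw r) from Algebra.TensorProduct.comm_tmul _ _ _,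
      Groth.Agent.Frob15.relFrob_tmul, h4]
  letI : Algebra C' C := (E.toRingHom.comp
    (Algebra.TensorProduct.includeRight : C' →ₐ[A] R ⊗[A] C').toRingHom).toAlgebra
  haveI : IsScalarTower A C' C := IsScalarTower.of_algebraMap_eq fun a => by
    show _ = E ((1 : R) ⊗ₜ[A] algebraMap A C' a)
    rw [show algebraMap A C' a = a ⊗ₜ[R] (1 : C) from rfl, hE, one_pow, one_mul, mul_one,
      ← IsScalarTower.algebraMap_apply]
  refine ⟨C', inferInstance, inferInstance, ‹_›, ‹_›, ‹_›, ?_⟩
  refine Algebra.IsPushout.of_equiv (S' := R ⊗[A] C') (AlgEquiv.ofRingEquiv (f := E) fun r => ?_)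
    (RingHom.ext fun c => rfl)
  show E (r ⊗ₜ[A] (1 : C')) = _
  rw [Algebra.TensorProduct.one_def, hE, one_pow, one_mul, map_one, one_mul]

attribute [local instance] Algebra.TensorProduct.rightAlgebra in
set_option maxHeartbeats 400000 in
/-- An étale algebra over a root tower of `A` comes from an étale `A`-algebra. -/
theorem exists_descent [hp : Fact p.Prime] : ∀ (n : ℕ) (A B C : Type u) [CommRing A] [CommRing B] [CommRing C]
    [Algebra A B] [Algebra A C] [Algebra B C] [IsScalarTower A B C] [Algebra.Etale B C],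
    (p : A) = 0 → Quiet.IsRootTower p n A B →
    ∃ (C' : Type u) (_ : CommRing C') (_ : Algebra A C') (_ : Algebra C' C) (_ : IsScalarTower A C' C),
      Algebra.Etale A C' ∧ Algebra.IsPushout A B C' C := by
  intro n
  induction n with
  | zero =>
    intro A B C _ _ _ _ _ _ _ _ _ h
    obtain ⟨e⟩ := h
    haveI : Algebra.Etale A B := Algebra.Etale.of_equiv e.symm
    haveI : Algebra.Etale A C := Algebra.Etale.comp A B C
    refine ⟨C, inferInstance, inferInstance, Algebra.id C, inferInstance, ‹_›, ?_⟩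
    let E : B ⊗[A] C ≃ₐ[A] C := (Algebra.TensorProduct.congr e AlgEquiv.refl).trans (Algebra.TensorProduct.lid A C)
    refine Algebra.IsPushout.of_equiv (S' := B ⊗[A] C) (AlgEquiv.ofRingEquiv (f := E.toRingEquiv) fun b => ?_)
      (RingHom.ext fun c => ?_)
    · show Algebra.TensorProduct.lid A C (Algebra.TensorProduct.congr e AlgEquiv.refl (b ⊗ₜ[A] (1 : C))) = _
      rw [Algebra.TensorProduct.congr_apply, Algebra.TensorProduct.map_tmul]
      show Algebra.TensorProduct.lid A C (e b ⊗ₜ[A] (1 : C)) = _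
      rw [Algebra.TensorProduct.lid_tmul, ← Algebra.algebraMap_eq_smul_one, IsScalarTower.algebraMap_apply A B C,
        ← e.symm.commutes]
      exact congrArg _ (e.symm_apply_apply b)
    · show Algebra.TensorProduct.lid A C (Algebra.TensorProduct.congr e AlgEquiv.refl ((1 : B) ⊗ₜ[A] c)) = _
      rw [Algebra.TensorProduct.congr_apply, Algebra.TensorProduct.map_tmul]
      show Algebra.TensorProduct.lid A C (e 1 ⊗ₜ[A] c) = _
      rw [Algebra.TensorProduct.lid_tmul, map_one, one_smul]
      rfl
  | succ n ih =>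
    intro A B C _ _ _ _ _ _ _ _ hA h
    obtain ⟨a, inst, hst, h⟩ := h
    letI := inst
    haveI := hst
    let R := Quiet.RootRing p A a
    letI : Algebra R C := ((algebraMap B C).comp (algebraMap R B)).toAlgebra
    haveI : IsScalarTower R B C := IsScalarTower.of_algebraMap_eq fun _ => rfl
    haveI : IsScalarTower A R C := IsScalarTower.of_algebraMap_eq fun x => by
      rw [IsScalarTower.algebraMap_apply R B C, ← IsScalarTower.algebraMap_apply A R B,
        ← IsScalarTower.algebraMap_apply]
    obtain ⟨C₁, _, _, _, _, _, hP₁⟩ := ih R B C (natCast_eq_zero_of_algebra A hA) h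
    letI : Algebra A C₁ := ((algebraMap R C₁).comp (algebraMap A R)).toAlgebra
    haveI : IsScalarTower A R C₁ := IsScalarTower.of_algebraMap_eq fun _ => rfl
    obtain ⟨C', _, _, _, _, _, hP₂⟩ := exists_descent_step A R C₁ hA (algebraMap_rootRing_injective A a)
      (pow_mem_range_rootRing A hA a)
    letI : Algebra C' C := ((algebraMap C₁ C).comp (algebraMap C' C₁)).toAlgebra
    haveI : IsScalarTower C' C₁ C := IsScalarTower.of_algebraMap_eq fun _ => rfl
    haveI : IsScalarTower A C₁ C := IsScalarTower.of_algebraMap_eq fun x => by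
      rw [IsScalarTower.algebraMap_apply A R C₁, ← IsScalarTower.algebraMap_apply R C₁ C,
        ← IsScalarTower.algebraMap_apply]
    haveI : IsScalarTower A C' C := IsScalarTower.of_algebraMap_eq fun x => by
      rw [IsScalarTower.algebraMap_apply C' C₁ C, ← IsScalarTower.algebraMap_apply A C' C₁,
        ← IsScalarTower.algebraMap_apply]
    refine ⟨C', inferInstance, inferInstance, ‹_›, ‹_›, ‹_›, ?_⟩
    haveI := hP₂
    exact (Algebra.IsPushout.comp_iff A R C' (S' := C₁) (T := B) (T' := C)).2 hP₁

end Quiet5
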