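import Groth.Agent.Quiet5.SchemeOps
import Groth.Prelude.Def_Frob
import Groth.Agent.Quiet5.Descent
import Mathlib.RingTheory.Ideal.GoingUp

/-!
# Composition of `p`-th root morphisms
-/

set_option autoImplicit false
set_option linter.style.haveILetI false

universe u

open CategoryTheory AlgebraicGeometry Polynomial

namespace Quiet5

variable {p : ℕ}

theorem pow_mem_range_of_isRootTower [hp : Fact p.Prime] : ∀ (n : ℕ) (A B : Type u) [CommRing A] [CommRing B]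
    [Algebra A B], (p : A) = 0 → Quiet.IsRootTower p n A B → ∀ b : B, b ^ p ^ n ∈ (algebraMap A B).range := by
  intro n
  induction n with
  | zero =>
    intro A B _ _ _ _ h b
    obtain ⟨e⟩ := h
    exact ⟨e b, by rw [pow_zero, pow_one, ← e.symm.commutes, e.symm_apply_eq]; rfl⟩
  | succ n ih =>
    intro A B _ _ _ hA h b
    obtain ⟨a, inst, hst, h⟩ := h
    letI := inst
    haveI := hst
    obtain ⟨r, hr⟩ := ih (Quiet.RootRing p A a) B (natCast_eq_zero_of_algebra A hA) h b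
    obtain ⟨s, hs⟩ := pow_mem_range_rootRing A hA a r
    exact ⟨s, by rw [IsScalarTower.algebraMap_apply A (Quiet.RootRing p A a) B, hs, map_pow, hr, ← pow_mul, pow_succ]⟩

theorem algebraMap_injective_of_isRootTower [hp : Fact p.Prime] : ∀ (n : ℕ) (A B : Type u) [CommRing A] [CommRing B]
    [Algebra A B], Quiet.IsRootTower p n A B → Function.Injective (algebraMap A B) := by
  intro n
  induction n with
  | zero =>
    intro A B _ _ _ h
    obtain ⟨e⟩ := h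
    intro x y hxy
    simpa [e.commutes] using congrArg e hxy
  | succ n ih =>
    intro A B _ _ _ h
    obtain ⟨a, inst, hst, h⟩ := h
    letI := inst
    haveI := hst
    intro x y hxy
    rw [IsScalarTower.algebraMap_apply A (Quiet.RootRing p A a) B,
      IsScalarTower.algebraMap_apply A (Quiet.RootRing p A a) B] at hxy
    exact algebraMap_rootRing_injective A a (ih _ _ h hxy)

theorem isPthRoot_comp [hp : Fact p.Prime] {X Y Z : Scheme.{u}} [FrobSch.IsCharP X p] {f : Y ⟶ X} {g : Z ⟶ Y}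
    (hf : Quiet.IsPthRoot p f) (hg : Quiet.IsPthRoot p g) : Quiet.IsPthRoot p (g ≫ f) := by
  intro x
  obtain ⟨⟨U, hU⟩, hxU, hP, n, hn⟩ := hf x
  letI := (f.app U).hom.toAlgebra
  have hA : (p : Γ(X, U)) = 0 := FrobSch.natCast_eq_zero_app X p U
  haveI : Algebra.IsIntegral Γ(X, U) Γ(Y, f ⁻¹ᵁ U) := ⟨fun b => by
    obtain ⟨a, ha⟩ := pow_mem_range_of_isRootTower n _ _ hA hn b
    refine IsIntegral.of_pow (pow_pos hp.out.pos n) ?_
    rw [← ha]
    exact isIntegral_algebraMap⟩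
  obtain ⟨Q, -, hQprime, hQ⟩ := Ideal.exists_ideal_over_prime_of_isIntegral (hU.primeIdealOf ⟨x, hxU⟩).asIdeal
    (⊥ : Ideal Γ(Y, f ⁻¹ᵁ U)) (fun z hz => by
      have hz0 : z = 0 := algebraMap_injective_of_isRootTower n _ _ hn
        ((Ideal.mem_bot.1 (Ideal.mem_comap.1 hz)).trans (map_zero _).symm)
      exact hz0 ▸ zero_mem _)
  let y : Y := hP.fromSpec ⟨Q, hQprime⟩
  have hy : f y = x := by
    have h1 := hU.SpecMap_appLE_fromSpec f hP le_rfl
    rw [← Scheme.Hom.app_eq_appLE] at h1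
    refine ((congrArg (fun h => h (⟨Q, hQprime⟩ : PrimeSpectrum Γ(Y, f ⁻¹ᵁ U))) h1).symm).trans ?_
    exact (congrArg hU.fromSpec (PrimeSpectrum.ext hQ)).trans (hU.fromSpec_primeIdealOf ⟨x, hxU⟩)
  have hyU : y ∈ f ⁻¹ᵁ U := by show f y ∈ U; rw [hy]; exact hxU
  obtain ⟨⟨U₂, hU₂⟩, hyU₂, hg'⟩ := hg y
  obtain ⟨b, hbU₂, hyb⟩ := hP.exists_basicOpen_le ⟨y, hyU₂⟩ hyU
  obtain ⟨a, ha⟩ := pow_mem_range_of_isRootTower n _ _ hA hn b
  have hpre : f ⁻¹ᵁ X.basicOpen a = Y.basicOpen b := by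
    rw [Scheme.preimage_basicOpen, show (f.app U).hom a = b ^ p ^ n from ha,
      Y.basicOpen_pow b (pow_pos hp.out.pos n)]
  have hW : IsAffineOpen (X.basicOpen a) := hU.basicOpen a
  have hxW : x ∈ X.basicOpen a := by
    have : y ∈ f ⁻¹ᵁ X.basicOpen a := by rw [hpre]; exact hyb
    rw [← hy]
    exact this
  obtain ⟨hV, n₁, hn₁⟩ := hasTower_of_le hU (f := f) ⟨hP, n, hn⟩ hW (X.basicOpen_le a)
  obtain ⟨hV₂, n₂, hn₂⟩ := hasTower_of_le hU₂ (f := g) hg' hV (hpre.le.trans hbU₂)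
  refine ⟨⟨X.basicOpen a, hW⟩, hxW, hV₂, ?_⟩
  letI := (f.app (X.basicOpen a)).hom.toAlgebra
  letI := (g.app (f ⁻¹ᵁ X.basicOpen a)).hom.toAlgebra
  letI : Algebra Γ(X, X.basicOpen a) Γ(Z, g ⁻¹ᵁ f ⁻¹ᵁ X.basicOpen a) :=
    (f.app (X.basicOpen a) ≫ g.app (f ⁻¹ᵁ X.basicOpen a)).hom.toAlgebra
  haveI : IsScalarTower Γ(X, X.basicOpen a) Γ(Y, f ⁻¹ᵁ X.basicOpen a) Γ(Z, g ⁻¹ᵁ f ⁻¹ᵁ X.basicOpen a) :=
    IsScalarTower.of_algebraMap_eq fun _ => rfl
  obtain ⟨k, hk⟩ := isRootTower_trans n₁ n₂ hn₁ hn₂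
  refine ⟨k, ?_⟩
  rw [Scheme.Hom.comp_app]
  exact hk

end Quiet5
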