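import Groth.Agent.Quiet5.Comp
import Mathlib.AlgebraicGeometry.Morphisms.Etale

/-!
# An étale morphism over a root tower is the base change of an étale morphism
-/

set_option autoImplicit false
set_option linter.style.haveILetI false

universe u

open CategoryTheory CategoryTheory.Limits AlgebraicGeometry

namespace Quiet5

variable {p : ℕ}

theorem exists_swap [hp : Fact p.Prime] {U P Q : Scheme.{u}} [IsAffine U] [IsAffine P] [IsAffine Q]
    [FrobSch.IsCharP U p] (h : P ⟶ U) (hh : HasTower p h ⊤) (q : Q ⟶ P) [Etale q] :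
    ∃ (Q₀ : Scheme.{u}) (c : Q₀ ⟶ U) (s : Q ⟶ Q₀), Etale c ∧ IsPullback q s h c := by
  letI : Algebra Γ(U, ⊤) Γ(P, ⊤) := h.appTop.hom.toAlgebra
  have hh' : ∃ n, Quiet.IsRootTower p n Γ(U, ⊤) Γ(P, ⊤) := hh.2
  obtain ⟨n, hn⟩ := hh'
  letI : Algebra Γ(P, ⊤) Γ(Q, ⊤) := q.appTop.hom.toAlgebra
  letI : Algebra Γ(U, ⊤) Γ(Q, ⊤) := (h.appTop ≫ q.appTop).hom.toAlgebra
  haveI : IsScalarTower Γ(U, ⊤) Γ(P, ⊤) Γ(Q, ⊤) := IsScalarTower.of_algebraMap_eq fun _ => rfl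
  haveI : Algebra.Etale Γ(P, ⊤) Γ(Q, ⊤) :=
    RingHom.etale_algebraMap.1 (HasRingHomProperty.appTop (P := @Etale) q inferInstance)
  obtain ⟨C', _, _, _, _, hC', hpo⟩ := exists_descent n Γ(U, ⊤) Γ(P, ⊤) Γ(Q, ⊤)
    (FrobSch.natCast_eq_zero_app U p ⊤) hn
  let φ : Γ(U, ⊤) ⟶ CommRingCat.of C' := CommRingCat.ofHom (algebraMap Γ(U, ⊤) C')
  let ψ : CommRingCat.of C' ⟶ Γ(Q, ⊤) := CommRingCat.ofHom (algebraMap C' Γ(Q, ⊤))
  have hsq : IsPushout h.appTop φ q.appTop ψ := (CommRingCat.isPushout_iff_isPushout).2 hpo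
  have h1 := isPullback_SpecMap_of_isPushout _ _ _ _ hsq
  have h2 : Etale (Spec.map φ) := (HasRingHomProperty.Spec_iff (P := @Etale)).2 (RingHom.etale_algebraMap.2 hC')
  refine ⟨Spec (CommRingCat.of C'), Spec.map φ ≫ U.isoSpec.inv, Q.isoSpec.hom ≫ Spec.map ψ, inferInstance, ?_⟩
  refine IsPullback.of_iso h1 Q.isoSpec.symm P.isoSpec.symm (Iso.refl _) U.isoSpec.symm ?_ ?_ ?_ ?_
  · simp only [Iso.symm_hom]
    rw [Iso.eq_inv_comp, ← Category.assoc, Scheme.isoSpec_hom_naturality, Category.assoc, Iso.hom_inv_id,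
      Category.comp_id]
  · simp
  · simp only [Iso.symm_hom]
    rw [Iso.eq_inv_comp, ← Category.assoc, Scheme.isoSpec_hom_naturality, Category.assoc, Iso.hom_inv_id,
      Category.comp_id]
  · simp

end Quiet5
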