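import Groth.Agent.Frob15.SmoothRelFrob

/-!
# Frobenius of smooth algebras over perfect fields: local monomial bases
-/

set_option autoImplicit false
set_option linter.style.haveILetI false

universe u

open TensorProduct

namespace Quiet5

open FrobAlg Groth.Agent.Frob15

variable (p : ℕ) [Fact p.Prime] (k : Type u) [Field k] [CharP k p] [PerfectRing k p]

/-- Over a perfect field the twist changes nothing: `b ↦ b ⊗ 1` is bijective. -/
theorem bijective_tmul_one (B : Type u) [CommRing B] [Algebra k B] :
    Function.Bijective fun b : B => (b ⊗ₜ[k] (1 : Twist p k)) := by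
  have hbij : Function.Bijective (Algebra.ofId k (Twist p k)) :=
    (toTwist p k).bijective.comp (bijective_frobenius k p)
  let e := AlgEquiv.ofBijective (Algebra.ofId k (Twist p k)) hbij
  let Φ := (Algebra.TensorProduct.rid k k B).symm.trans (Algebra.TensorProduct.congr AlgEquiv.refl e)
  have h : (fun b : B => (b ⊗ₜ[k] (1 : Twist p k))) = Φ := by
    funext b
    show _ = Algebra.TensorProduct.congr AlgEquiv.refl e (b ⊗ₜ[k] (1 : k))
    rw [Algebra.TensorProduct.congr_apply, Algebra.TensorProduct.map_tmul]
    exact congrArg _ (map_one e).symm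
  rw [h]
  exact Φ.bijective

/-- An algebra étale over a polynomial ring over a perfect field has a `p`-basis of monomials. -/
theorem bijective_pBasis (B : Type u) [CommRing B] [Algebra k B] [CharP B p] (r : ℕ)
    (φ : MvPolynomial (Fin r) k →ₐ[k] B) (hφ : φ.Etale) :
    Function.Bijective fun c : (Fin r → Fin p) → B =>
      ∑ e, c e ^ p * ∏ i, φ (MvPolynomial.X i) ^ (e i : ℕ) := by
  classical
  letI := φ.toRingHom.toAlgebra
  haveI : IsScalarTower k (MvPolynomial (Fin r) k) B := IsScalarTower.of_algebraMap_eq fun a => (φ.commutes a).symm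
  haveI : Algebra.Etale (MvPolynomial (Fin r) k) B := hφ
  haveI : CharP (MvPolynomial (Fin r) k) p := inferInstance
  haveI : Algebra.FinitePresentation (MvPolynomial (Fin r) k) B := Algebra.Etale.finitePresentation
  have hb := bijective_expansion p r ((etale_iff_bijective_relFrob p (MvPolynomial (Fin r) k) B).1 inferInstance)
  have hE : Function.Bijective fun (c : (Fin r → Fin p) → B) (e : Fin r → Fin p) => (c e ⊗ₜ[k] (1 : Twist p k)) :=
    Function.Bijective.piMap fun _ => bijective_tmul_one p k B
  refine (iff_of_eq (congrArg Function.Bijective ?_)).2 (hb.comp hE)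
  funext c
  refine Finset.sum_congr rfl fun e _ => ?_
  rw [relFrob_tmul, show ((toTwist p k).symm 1 : k) = 1 from rfl, map_one, mul_one, monB,
    MvPolynomial.monomial_eq, MvPolynomial.C_1, one_mul, Finsupp.prod_fintype _ _ (fun i => pow_zero _), map_prod]
  refine congrArg (c e ^ p * ·) (Finset.prod_congr rfl fun i _ => ?_)
  rw [map_pow]
  rfl

end Quiet5
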