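import Groth.Agent.Quiet5.Comp
import Mathlib.AlgebraicGeometry.AffineScheme

/-!
# Lifting root towers along surjections; root towers as morphisms of spectra
-/

set_option autoImplicit false
set_option linter.style.haveILetI false

universe u

open CategoryTheory AlgebraicGeometry Polynomial TensorProduct

namespace Quiet5

variable {p : ℕ}

theorem isPthRoot_SpecMap (n : ℕ) (L D : Type u) [CommRing L] [CommRing D] [Algebra L D]
    (h : Quiet.IsRootTower p n L D) : Quiet.IsPthRoot p (Spec.map (CommRingCat.ofHom (algebraMap L D))) := by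
  intro x
  let F := Spec.map (CommRingCat.ofHom (algebraMap L D))
  refine ⟨⟨⊤, isAffineOpen_top _⟩, trivial, isAffineOpen_top _, n, ?_⟩
  let eL := (Scheme.ΓSpecIso (CommRingCat.of L)).commRingCatIsoToRingEquiv
  let eD : D ≃+* Γ(Spec (CommRingCat.of D), ⊤) :=
    (Scheme.ΓSpecIso (CommRingCat.of D)).commRingCatIsoToRingEquiv.symm
  letI : Algebra L Γ(Spec (CommRingCat.of D), ⊤) := (eD.toRingHom.comp (algebraMap L D)).toAlgebra
  have h1 : Quiet.IsRootTower p n L Γ(Spec (CommRingCat.of D), ⊤) :=
    isRootTower_congr n ({ eD with commutes' := fun _ => rfl } : D ≃ₐ[L] _) h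
  letI : Algebra Γ(Spec (CommRingCat.of L), ⊤) Γ(Spec (CommRingCat.of D), F ⁻¹ᵁ ⊤) := (F.app ⊤).hom.toAlgebra
  letI : Algebra L Γ(Spec (CommRingCat.of D), F ⁻¹ᵁ ⊤) := (eD.toRingHom.comp (algebraMap L D)).toAlgebra
  refine isRootTower_congr_base (A := L) n eL (fun y => ?_) h1
  show (F.app ⊤).hom y = eD (algebraMap L D ((Scheme.ΓSpecIso (CommRingCat.of L)).hom.hom y))
  have h2 := ConcreteCategory.congr_hom (Scheme.ΓSpecIso_inv_naturality (CommRingCat.ofHom (algebraMap L D)))
    ((Scheme.ΓSpecIso (CommRingCat.of L)).hom.hom y)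
  refine (congrArg (F.app ⊤).hom ?_).trans h2.symm
  exact (congrArg (fun m => m.hom y) (Scheme.ΓSpecIso (CommRingCat.of L)).hom_inv_id).symm

theorem surjective_of_isPushout {A B A' B' : Type u} [CommRing A] [CommRing B] [CommRing A'] [CommRing B']
    [Algebra A B] [Algebra A A'] [Algebra A B'] [Algebra A' B'] [Algebra B B']
    [IsScalarTower A A' B'] [IsScalarTower A B B'] (hP : Algebra.IsPushout A A' B B')
    (hs : Function.Surjective (algebraMap A B)) : Function.Surjective (algebraMap A' B') := by
  haveI := hP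
  intro z
  obtain ⟨w, rfl⟩ := (Algebra.IsPushout.equiv A A' B B').surjective z
  induction w using TensorProduct.induction_on with
  | zero => exact ⟨0, by simp⟩
  | add x y hx hy =>
    obtain ⟨a, ha⟩ := hx
    obtain ⟨b, hb⟩ := hy
    exact ⟨a + b, by rw [map_add, map_add, ha, hb]⟩
  | tmul x y =>
    obtain ⟨a, rfl⟩ := hs y
    refine ⟨x * algebraMap A A' a, ?_⟩
    rw [Algebra.IsPushout.equiv_tmul, map_mul, ← IsScalarTower.algebraMap_apply A A' B',
      ← IsScalarTower.algebraMap_apply A B B']

/-- Root towers lift along surjections. -/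
theorem exists_tower_lift : ∀ (n : ℕ) (L C D : Type u) [CommRing L] [CommRing C] [CommRing D] [Algebra L C]
    [Algebra C D] [Algebra L D] [IsScalarTower L C D],
    Function.Surjective (algebraMap L C) → Quiet.IsRootTower p n C D →
    ∃ (D' : Type u) (_ : CommRing D') (_ : Algebra L D') (_ : Algebra D' D) (_ : IsScalarTower L D' D),
      Quiet.IsRootTower p n L D' ∧ Algebra.IsPushout L C D' D := by
  intro n
  induction n with
  | zero =>
    intro L C D _ _ _ _ _ _ _ _ h
    obtain ⟨e⟩ := h
    refine ⟨L, inferInstance, Algebra.id L, ‹Algebra L D›, inferInstance, ⟨AlgEquiv.refl⟩, ?_⟩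
    haveI : Algebra.IsPushout L C L C := inferInstance
    exact Algebra.IsPushout.of_equiv (S' := C) e.symm (RingHom.ext fun l => by
      show e.symm (algebraMap L C l) = algebraMap L D l
      rw [show e.symm (algebraMap L C l) = algebraMap C D (algebraMap L C l) from e.symm.commutes _,
        ← IsScalarTower.algebraMap_apply])
  | succ n ih =>
    intro L C D _ _ _ _ _ _ _ hs h
    obtain ⟨a, inst, hst, h⟩ := h
    letI := inst
    haveI := hst
    obtain ⟨a₀, rfl⟩ := hs a
    let R₀ := Quiet.RootRing p L a₀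
    let R := Quiet.RootRing p C (algebraMap L C a₀)
    have hdvd : (X ^ p - Polynomial.C (algebraMap L C a₀) : C[X]) ∣
        (X ^ p - Polynomial.C a₀ : L[X]).map (Algebra.ofId L C).toRingHom := by
      rw [Polynomial.map_sub, Polynomial.map_pow, Polynomial.map_X, Polynomial.map_C]
      exact dvd_rfl
    let ι : R₀ →ₐ[L] R := AdjoinRoot.mapAlgHom (Algebra.ofId L C) _ _ hdvd
    letI : Algebra R₀ R := ι.toRingHom.toAlgebra
    haveI : IsScalarTower L R₀ R := IsScalarTower.of_algebraMap_eq fun x => (ι.commutes x).symm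
    have hι : ι (AdjoinRoot.root _) = AdjoinRoot.root _ := AdjoinRoot.map_root _ _ _ hdvd
    letI : Algebra R₀ D := ((algebraMap R D).comp (algebraMap R₀ R)).toAlgebra
    haveI : IsScalarTower R₀ R D := IsScalarTower.of_algebraMap_eq fun _ => rfl
    have hι_surj : Function.Surjective (algebraMap R₀ R) := by
      intro z
      induction z using AdjoinRoot.induction_on with
      | ih g =>
        obtain ⟨g₀, rfl⟩ := Polynomial.map_surjective (algebraMap L C) hs g
        refine ⟨AdjoinRoot.mk _ g₀, ?_⟩
        show ι (AdjoinRoot.mk _ g₀) = _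
        induction g₀ using Polynomial.induction_on' with
        | add x y hx hy => rw [map_add, map_add, hx, hy, Polynomial.map_add, map_add]
        | monomial k c =>
          rw [← C_mul_X_pow_eq_monomial, map_mul (AdjoinRoot.mk _), map_pow (AdjoinRoot.mk _), AdjoinRoot.mk_C,
            AdjoinRoot.mk_X, map_mul, map_pow, hι, Polynomial.map_mul, Polynomial.map_pow, Polynomial.map_X,
            Polynomial.map_C, map_mul, map_pow, AdjoinRoot.mk_C, AdjoinRoot.mk_X]
          congr 1
          exact ι.commutes c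
    obtain ⟨D', _, _, _, _, hD', hP⟩ := ih R₀ R D hι_surj h
    letI : Algebra L D' := ((algebraMap R₀ D').comp (algebraMap L R₀)).toAlgebra
    haveI : IsScalarTower L R₀ D' := IsScalarTower.of_algebraMap_eq fun _ => rfl
    haveI : IsScalarTower L R₀ D := IsScalarTower.of_algebraMap_eq fun x => by
      rw [IsScalarTower.algebraMap_apply R₀ R D, ← IsScalarTower.algebraMap_apply L R₀ R,
        IsScalarTower.algebraMap_apply L C D, IsScalarTower.algebraMap_apply C R D,
        ← IsScalarTower.algebraMap_apply L C R]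
    haveI : IsScalarTower L D' D := IsScalarTower.of_algebraMap_eq fun x => by
      rw [IsScalarTower.algebraMap_apply L R₀ D', ← IsScalarTower.algebraMap_apply R₀ D' D,
        ← IsScalarTower.algebraMap_apply]
    refine ⟨D', inferInstance, ‹_›, ‹_›, ‹_›, ⟨a₀, ‹_›, ‹_›, hD'⟩, ?_⟩
    haveI : IsScalarTower L R D := IsScalarTower.of_algebraMap_eq fun x => by
      rw [IsScalarTower.algebraMap_apply L C D, IsScalarTower.algebraMap_apply C R D,
        ← IsScalarTower.algebraMap_apply L C R]
    haveI hR : Algebra.IsPushout L R₀ C R :=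
      Algebra.IsPushout.symm (isPushout_rootRing L C a₀ ι (fun x => ι.commutes x) hι)
    exact ((Algebra.IsPushout.comp_iff L R₀ C (S' := R) (T := D') (T' := D)).2 hP.symm).symm

end Quiet5
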