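import Groth.Agent.Quiet5.TowerOps
import Mathlib.AlgebraicGeometry.Morphisms.Flat
import Mathlib.Algebra.Category.Ring.Constructions

/-!
# `p`-th root morphisms: base change, composition, homeomorphism
-/

set_option autoImplicit false
set_option linter.style.haveILetI false

universe u

open CategoryTheory AlgebraicGeometry

namespace Quiet5

variable {p : ℕ} {X Y Z X' Y' : Scheme.{u}}

/-- The morphism `f` is a root tower over the affine open `U`. -/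
def HasTower (p : ℕ) (f : Y ⟶ X) (U : X.Opens) : Prop :=
  IsAffineOpen (f ⁻¹ᵁ U) ∧
    letI := (f.app U).hom.toAlgebra
    ∃ n : ℕ, Quiet.IsRootTower p n Γ(X, U) Γ(Y, f ⁻¹ᵁ U)

theorem hasTower_baseChange {f : Y ⟶ X} {g : X' ⟶ X} {f' : Y' ⟶ X'} {g' : Y' ⟶ Y}
    (H : IsPullback g' f' f g) {U : X.Opens} (hU : IsAffineOpen U) (hf : HasTower p f U)
    {W : X'.Opens} (hW : IsAffineOpen W) (hWU' : W ≤ g ⁻¹ᵁ U) : HasTower p f' W := by
  obtain ⟨hU', n, hn⟩ := hf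
  have hUY : f' ⁻¹ᵁ W = g' ⁻¹ᵁ (f ⁻¹ᵁ U) ⊓ f' ⁻¹ᵁ W := by
    refine le_antisymm (le_inf (fun y hy => ?_) le_rfl) inf_le_right
    show f (g' y) ∈ U
    rw [show f (g' y) = g (f' y) from congrArg (fun h => h y) H.w]
    exact hWU' hy
  haveI : IsAffine (f ⁻¹ᵁ U).toScheme := hU'
  haveI : IsAffine W.toScheme := hW
  haveI : IsAffine U.toScheme := hU
  haveI : IsAffineHom (g.resLE U W hWU') := inferInstance
  have hW' : IsAffineOpen (f' ⁻¹ᵁ W) :=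
    .of_isIso (Scheme.Hom.isPullback_resLE H hWU' le_rfl hUY).isoPullback.hom
  have hP := (isIso_pushoutSection_iff H hWU' le_rfl hUY).1
    (isIso_pushoutSection_of_isAffineOpen H hWU' le_rfl hUY hU hW hU')
  refine ⟨hW', n, ?_⟩
  letI : Algebra Γ(X, U) Γ(Y, f ⁻¹ᵁ U) := (f.app U).hom.toAlgebra
  letI : Algebra Γ(X, U) Γ(X', W) := (g.appLE U W hWU').hom.toAlgebra
  letI : Algebra Γ(X', W) Γ(Y', f' ⁻¹ᵁ W) := (f'.app W).hom.toAlgebra
  letI : Algebra Γ(Y, f ⁻¹ᵁ U) Γ(Y', f' ⁻¹ᵁ W) :=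
    (g'.appLE (f ⁻¹ᵁ U) (f' ⁻¹ᵁ W) (hUY.le.trans inf_le_left)).hom.toAlgebra
  letI : Algebra Γ(X, U) Γ(Y', f' ⁻¹ᵁ W) :=
    ((algebraMap Γ(X', W) Γ(Y', f' ⁻¹ᵁ W)).comp (algebraMap Γ(X, U) Γ(X', W))).toAlgebra
  haveI : IsScalarTower Γ(X, U) Γ(X', W) Γ(Y', f' ⁻¹ᵁ W) := IsScalarTower.of_algebraMap_eq fun _ => rfl
  haveI : IsScalarTower Γ(X, U) Γ(Y, f ⁻¹ᵁ U) Γ(Y', f' ⁻¹ᵁ W) := IsScalarTower.of_algebraMap_eq fun a => by
    show (g.appLE U W hWU' ≫ f'.app W).hom a = (f.app U ≫ g'.appLE _ _ _).hom a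
    congr 2
    rw [Scheme.Hom.app_eq_appLE, Scheme.Hom.app_eq_appLE, Scheme.Hom.appLE_comp_appLE,
      Scheme.Hom.appLE_comp_appLE]
    simp only [H.w]
  refine isRootTower_baseChange n (Algebra.IsPushout.symm ?_) hn
  rw [← CommRingCat.isPushout_iff_isPushout]
  simp only [← Scheme.Hom.app_eq_appLE] at hP
  exact hP

theorem hasTower_of_le {f : Y ⟶ X} {U W : X.Opens} (hU : IsAffineOpen U) (hf : HasTower p f U)
    (hW : IsAffineOpen W) (h : W ≤ U) : HasTower p f W :=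
  hasTower_baseChange (IsPullback.id_horiz f) hU hf hW h

theorem isPthRoot_baseChange {f : Y ⟶ X} {g : X' ⟶ X} {f' : Y' ⟶ X'} {g' : Y' ⟶ Y}
    (H : IsPullback g' f' f g) (hf : Quiet.IsPthRoot p f) : Quiet.IsPthRoot p f' := by
  intro x'
  obtain ⟨U, hxU, hU', hn⟩ := hf (g x')
  obtain ⟨W, hW, hxW, hWU⟩ :=
    exists_isAffineOpen_mem_and_subset (x := x') (U := g ⁻¹ᵁ U.1) hxU
  exact ⟨⟨W, hW⟩, hxW, hasTower_baseChange H U.2 ⟨hU', hn⟩ hW hWU⟩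

theorem isPthRoot_of_isIso (f : Y ⟶ X) [IsIso f] : Quiet.IsPthRoot p f := by
  intro x
  obtain ⟨_, ⟨U, hU, rfl⟩, hxU, -⟩ := X.isBasis_affineOpens.exists_subset_of_mem_open (Set.mem_univ x) isOpen_univ
  refine ⟨⟨U, hU⟩, hxU, hU.preimage f, 0, ?_⟩
  letI := (f.app U).hom.toAlgebra
  haveI : IsIso (f.app U) := inferInstance
  exact ⟨(AlgEquiv.ofBijective (Algebra.ofId Γ(X, U) Γ(Y, f ⁻¹ᵁ U))
    (asIso (f.app U)).commRingCatIsoToRingEquiv.bijective).symm⟩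

theorem isPthRoot_restrict {f : Y ⟶ X} (hf : Quiet.IsPthRoot p f) (W : X.Opens) :
    Quiet.IsPthRoot p (f ∣_ W) :=
  isPthRoot_baseChange (isPullback_morphismRestrict f W).flip hf

end Quiet5
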