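import Groth.Prelude.Def_W4c2gaugesfzipsQuiet
import Groth.Agent.Synt15.Finite
import Groth.Agent.Synt15.KoszulCI
import Groth.Agent.Synt15.Bridge
import Groth.Agent.S9699

/-!
# Root extractions and quasi-étale morphisms are syntomic
-/

set_option autoImplicit false
set_option linter.style.haveILetI false

universe u

open CategoryTheory AlgebraicGeometry Polynomial
open Groth.Agent.Synt15

namespace Quiet5

theorem isSquare_congr {A B B' : Type u} [CommRing A] [CommRing B] [CommRing B'] [Algebra A B] [Algebra A B']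
    (e : B ≃ₐ[A] B') (h : IsSquare (A := A) B) : IsSquare (A := A) B' := by
  obtain ⟨h1, h2, h3, n, F, ⟨e'⟩⟩ := h
  exact ⟨Module.Finite.equiv e.toLinearEquiv, Module.Free.of_equiv e.toLinearEquiv,
    fun hA => @Equiv.nontrivial _ _ e.toEquiv.symm (h3 hA), n, F, ⟨e.symm.trans e'⟩⟩

theorem isSquare_of_isRootTower (p : ℕ) (hp : p ≠ 0) (A : Type u) [CommRing A] :
    ∀ (n : ℕ) (R B : Type u) [CommRing R] [CommRing B] [Algebra A R] [Algebra A B] [Algebra R B]
      [IsScalarTower A R B], IsSquare (A := A) R → Quiet.IsRootTower p n R B → IsSquare (A := A) B := by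
  intro n
  induction n with
  | zero =>
    intro R B _ _ _ _ _ _ hR h
    obtain ⟨e⟩ := h
    exact isSquare_congr (e.symm.restrictScalars A) hR
  | succ n ih =>
    intro R B _ _ _ _ _ _ hR h
    obtain ⟨a, inst, hst, h⟩ := h
    letI := inst
    haveI := hst
    haveI : IsScalarTower A (Quiet.RootRing p R a) B := IsScalarTower.of_algebraMap_eq fun x => by
      rw [IsScalarTower.algebraMap_apply A R (Quiet.RootRing p R a), ← IsScalarTower.algebraMap_apply R _ B,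
        ← IsScalarTower.algebraMap_apply]
    exact ih (Quiet.RootRing p R a) B (hR.adjoinRoot (monic_X_pow_sub_C a hp)
      (fun _ => by rw [natDegree_X_pow_sub_C]; exact hp)) h

theorem isSyntomic_of_isRootTower (p : ℕ) (hp : p ≠ 0) (n : ℕ) (A B : Type u) [CommRing A] [CommRing B]
    [Algebra A B] (h : Quiet.IsRootTower p n A B) : Synt.IsSyntomic A B :=
  (isSquare_of_isRootTower p hp A n A B isSquare_self h).syntomic.1

variable {X Y : Scheme.{u}}

theorem isCIMorphism_of_isPthRoot (p : ℕ) (hp : p ≠ 0) (r : Y ⟶ X) (h : Quiet.IsPthRoot p r) :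
    CInt.IsCIMorphism r := by
  refine (isSyntomicMor_iff _).1 fun y => ?_
  obtain ⟨U, hxU, hU', n, hn⟩ := h (r y)
  refine ⟨⟨r ⁻¹ᵁ U.1, hU'⟩, U, le_rfl, hxU, ?_⟩
  have h1 := (letI := (r.app U.1).hom.toAlgebra; isSyntomic_of_isRootTower p hp n _ _ hn)
  rw [← Scheme.Hom.app_eq_appLE]
  exact h1

theorem isSyntomicMor_of_local (f : Y ⟶ X)
    (h : ∀ y : Y, ∃ U : Y.Opens, y ∈ U ∧ CInt.IsCIMorphism (U.ι ≫ f)) : Synt.IsSyntomicMor f := by
  intro x
  obtain ⟨U, hxU, hCI⟩ := h x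
  obtain ⟨_, ⟨V, hV, rfl⟩, hxV, -⟩ :=
    X.isBasis_affineOpens.exists_subset_of_mem_open (Set.mem_univ (f x)) isOpen_univ
  obtain ⟨_, ⟨U₁, hU₁, rfl⟩, hxU₁, hle⟩ :=
    Y.isBasis_affineOpens.exists_subset_of_mem_open (show x ∈ ((U ⊓ f ⁻¹ᵁ V : Y.Opens) : Set Y) from ⟨hxU, hxV⟩)
      (U ⊓ f ⁻¹ᵁ V).2
  have h1 : U₁ ≤ U := fun y hy => (hle hy).1
  have e : U₁ ≤ f ⁻¹ᵁ V := fun y hy => (hle hy).2
  refine ⟨⟨U₁, hU₁⟩, ⟨V, hV⟩, e, hxU₁, (isCIMorphism_resLE_iff f hV hU₁ e).1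
    (isCIMorphism_of_comp_isOpenImmersion _ (Scheme.Opens.ι V) ?_)⟩
  rw [Scheme.Hom.resLE_comp_ι, ← Y.homOfLE_ι h1, Category.assoc]
  exact Groth.Agent.CAlgH.CIMorphism.isCIMorphism_comp _ _ (isCIMorphism_of_isOpenImmersion _) hCI

theorem isSyntomicMor_of_isQuiet (p : ℕ) (hp : p ≠ 0) (f : Y ⟶ X) (hf : Quiet.IsQuiet p f) :
    Synt.IsSyntomicMor f := by
  refine isSyntomicMor_of_local f fun y => ?_
  obtain ⟨V, Y', r, e, hy, hr, he, hfac⟩ := hf y
  refine ⟨V, hy, ?_⟩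
  rw [← hfac]
  haveI := he
  exact Groth.Agent.CAlgH.CIMorphism.isCIMorphism_comp _ _ (isCIMorphism_of_isPthRoot p hp r hr)
    ((isSyntomicMor_iff _).1 (Groth.Agent.S9699.result e))

end Quiet5
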