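import Groth.Prelude.Def_W4c2gaugesfzipsQuiet
import Mathlib.RingTheory.PowerBasis

/-!
# Root towers from monomial bases
-/

set_option autoImplicit false
set_option linter.style.haveILetI false

universe u

open Polynomial

namespace Quiet5

/-- `B` is a root tower over `R` if it has a basis of monomials `∏ yᵢ ^ eᵢ`, `eᵢ < p`, with `yᵢ ^ p` in `R`. -/
theorem isRootTower_of_monomial_basis (p : ℕ) (hp : p ≠ 0) :
    ∀ (n : ℕ) (R B : Type u) [CommRing R] [CommRing B] [Algebra R B] (a : Fin n → R) (y : Fin n → B),
      (∀ i, y i ^ p = algebraMap R B (a i)) →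
      Function.Bijective (fun c : (Fin n → Fin p) → R =>
        ∑ e, algebraMap R B (c e) * ∏ i, y i ^ (e i : ℕ)) →
      Quiet.IsRootTower p n R B := by
  intro n
  induction n with
  | zero =>
    intro R B _ _ _ a y _ hb
    have h : (fun c : (Fin 0 → Fin p) → R => ∑ e, algebraMap R B (c e) * ∏ i, y i ^ (e i : ℕ)) =
        (algebraMap R B) ∘ (fun c => c default) := by
      funext c
      simp
    rw [h] at hb
    have hb' : Function.Bijective (algebraMap R B) := by
      have hf : Function.Bijective fun c : (Fin 0 → Fin p) → R => c default :=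
        (Equiv.funUnique (Fin 0 → Fin p) R).bijective
      exact (Function.Bijective.of_comp_iff _ hf).1 hb
    exact ⟨(AlgEquiv.ofBijective (Algebra.ofId R B) hb').symm⟩
  | succ n ih =>
    intro R B _ _ _ a y hy hb
    let g : R[X] := X ^ p - C (a 0)
    have hg : g.Monic := monic_X_pow_sub_C _ hp
    have hev : eval₂ (Algebra.ofId R B).toRingHom (y 0) g = 0 := by
      simp only [g, eval₂_sub, eval₂_X_pow, eval₂_C]
      exact sub_eq_zero.2 (hy 0)
    let ev : AdjoinRoot g →ₐ[R] B := AdjoinRoot.liftAlgHom g (Algebra.ofId R B) (y 0) hev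
    letI : Algebra (AdjoinRoot g) B := ev.toRingHom.toAlgebra
    haveI : IsScalarTower R (AdjoinRoot g) B := IsScalarTower.of_algebraMap_eq fun r => (ev.commutes r).symm
    refine ⟨a 0, ‹Algebra (AdjoinRoot g) B›, ‹IsScalarTower R (AdjoinRoot g) B›, ?_⟩
    refine ih (AdjoinRoot g) B (fun i => algebraMap R _ (a i.succ)) (fun i => y i.succ)
      (fun i => by rw [hy, IsScalarTower.algebraMap_apply R (AdjoinRoot g) B]) ?_
    -- the power basis in degrees `< p`
    rcases subsingleton_or_nontrivial R with hR | hR
    · haveI : Subsingleton B := subsingleton_of_zero_eq_one (by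
        rw [← map_zero (algebraMap R B), ← map_one (algebraMap R B), Subsingleton.elim (0 : R) 1])
      haveI : Subsingleton (AdjoinRoot g) := subsingleton_of_zero_eq_one (by
        rw [← map_zero (algebraMap R (AdjoinRoot g)), ← map_one (algebraMap R (AdjoinRoot g)),
          Subsingleton.elim (0 : R) 1])
      exact ⟨fun _ _ _ => Subsingleton.elim _ _, fun z => ⟨0, Subsingleton.elim _ _⟩⟩
    have hdeg : g.natDegree = p := natDegree_X_pow_sub_C
    let b : Module.Basis (Fin p) R (AdjoinRoot g) :=
      (AdjoinRoot.powerBasis' hg).basis.reindex (finCongr hdeg)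
    have hbv : ∀ j : Fin p, b j = AdjoinRoot.root g ^ (j : ℕ) := fun j => by
      simp [b]
    let E : ((Fin (n + 1) → Fin p) → R) → ((Fin n → Fin p) → AdjoinRoot g) :=
      fun c e => b.equivFun.symm (fun j => c (Fin.cons j e))
    have hE : Function.Bijective E := by
      refine ⟨fun c d h => funext fun e => ?_, fun d => ⟨fun e => b.equivFun (d (Fin.tail e)) (e 0), ?_⟩⟩
      · have h1 := congrFun (b.equivFun.symm.injective (congrFun h (Fin.tail e))) (e 0)
        simpa using h1
      · funext e
        simp [E]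
    have hcomp : (fun c' : (Fin n → Fin p) → AdjoinRoot g =>
          ∑ e, algebraMap (AdjoinRoot g) B (c' e) * ∏ i, y i.succ ^ (e i : ℕ)) ∘ E =
        fun c : (Fin (n + 1) → Fin p) → R => ∑ e, algebraMap R B (c e) * ∏ i, y i ^ (e i : ℕ) := by
      funext c
      symm
      rw [← (Fin.consEquiv fun _ : Fin (n + 1) => Fin p).sum_comp, Fintype.sum_prod_type, Finset.sum_comm]
      refine Finset.sum_congr rfl fun e _ => ?_
      show _ = algebraMap (AdjoinRoot g) B (b.equivFun.symm _) * _
      rw [Module.Basis.equivFun_symm_apply, map_sum, Finset.sum_mul]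
      refine Finset.sum_congr rfl fun j _ => ?_
      show algebraMap R B (c (Fin.cons j e)) * ∏ i, y i ^ ((Fin.cons j e : Fin (n + 1) → Fin p) i : ℕ) = _
      rw [Fin.prod_univ_succ, Algebra.smul_def, map_mul, ← IsScalarTower.algebraMap_apply, hbv, map_pow]
      simp only [Fin.cons_zero, Fin.cons_succ]
      rw [show algebraMap (AdjoinRoot g) B (AdjoinRoot.root g) = y 0 from AdjoinRoot.lift_root hev, mul_assoc]
    exact (Function.Bijective.of_comp_iff _ hE).1 (hcomp ▸ hb)

end Quiet5
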