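import Groth.Prelude.Def_W4c2gaugesfzipsQuiet
import Mathlib.RingTheory.IsTensorProduct
import Mathlib.RingTheory.TensorProduct.Maps

/-!
# Root towers: isomorphisms, base change, composition
-/

set_option autoImplicit false
set_option linter.style.haveILetI false

universe u

open Polynomial TensorProduct

namespace Quiet5

variable {p : ℕ}

theorem isRootTower_congr : ∀ (n : ℕ) {A B B' : Type u} [CommRing A] [CommRing B] [CommRing B'] [Algebra A B]
    [Algebra A B'], (B ≃ₐ[A] B') → Quiet.IsRootTower p n A B → Quiet.IsRootTower p n A B' := by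
  intro n
  induction n with
  | zero => intro A B B' _ _ _ _ _ e h; obtain ⟨e'⟩ := h; exact ⟨e.symm.trans e'⟩
  | succ n ih =>
    intro A B B' _ _ _ _ _ e h
    obtain ⟨a, inst, hst, h⟩ := h
    letI := inst
    haveI := hst
    letI : Algebra (Quiet.RootRing p A a) B' :=
      (e.toRingHom.comp (algebraMap (Quiet.RootRing p A a) B)).toAlgebra
    haveI : IsScalarTower A (Quiet.RootRing p A a) B' := IsScalarTower.of_algebraMap_eq fun x => by
      show _ = e (algebraMap (Quiet.RootRing p A a) B (algebraMap A (Quiet.RootRing p A a) x))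
      rw [← IsScalarTower.algebraMap_apply, e.commutes]
    exact ⟨a, ‹_›, ‹_›, ih ({ e with commutes' := fun r => rfl } : B ≃ₐ[Quiet.RootRing p A a] B') h⟩

theorem isRootTower_refl (A : Type u) [CommRing A] : Quiet.IsRootTower p 0 A A := ⟨AlgEquiv.refl⟩

/-- Change of the base ring along an isomorphism. -/
theorem isRootTower_congr_base : ∀ (n : ℕ) {A A' C : Type u} [CommRing A] [CommRing A'] [CommRing C] [Algebra A C]
    [Algebra A' C] (E : A' ≃+* A), (∀ x, algebraMap A' C x = algebraMap A C (E x)) →
    Quiet.IsRootTower p n A C → Quiet.IsRootTower p n A' C := by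
  intro n
  induction n with
  | zero =>
    intro A A' C _ _ _ _ _ E hE h
    obtain ⟨e⟩ := h
    exact ⟨AlgEquiv.ofRingEquiv (f := e.toRingEquiv.trans E.symm) fun x => by
      show E.symm (e (algebraMap A' C x)) = x
      rw [hE, e.commutes]
      exact E.symm_apply_apply x⟩
  | succ n ih =>
    intro A A' C _ _ _ _ _ E hE h
    obtain ⟨a, inst, hst, h⟩ := h
    letI := inst
    haveI := hst
    let E₁ : Quiet.RootRing p A' (E.symm a) ≃+* Quiet.RootRing p A a :=
      AdjoinRoot.mapRingEquiv E _ _ (Associated.of_eq (by simp [Polynomial.map_sub, Polynomial.map_pow]))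
    letI : Algebra (Quiet.RootRing p A' (E.symm a)) C :=
      ((algebraMap (Quiet.RootRing p A a) C).comp E₁.toRingHom).toAlgebra
    haveI : IsScalarTower A' (Quiet.RootRing p A' (E.symm a)) C := IsScalarTower.of_algebraMap_eq fun x => by
      show _ = algebraMap (Quiet.RootRing p A a) C (E₁ (AdjoinRoot.of _ x))
      rw [hE, IsScalarTower.algebraMap_apply A (Quiet.RootRing p A a) C]
      congr 1
      simp [E₁]
    exact ⟨E.symm a, ‹_›, ‹_›, ih E₁ (fun _ => rfl) h⟩

theorem isRootTower_trans : ∀ (n m : ℕ) {A B C : Type u} [CommRing A] [CommRing B] [CommRing C] [Algebra A B]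
    [Algebra A C] [Algebra B C] [IsScalarTower A B C], Quiet.IsRootTower p n A B → Quiet.IsRootTower p m B C →
      ∃ k, Quiet.IsRootTower p k A C := by
  intro n
  induction n with
  | zero =>
    intro m A B C _ _ _ _ _ _ _ h1 h2
    refine ⟨m, ?_⟩
    obtain ⟨e⟩ := h1
    cases m with
    | zero => obtain ⟨e'⟩ := h2; exact ⟨(e'.restrictScalars A).trans e⟩
    | succ m =>
      obtain ⟨b, inst, hst, h⟩ := h2
      letI := inst
      haveI := hst
      let E : Quiet.RootRing p A (e b) ≃ₐ[A] Quiet.RootRing p B b :=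
        AdjoinRoot.mapAlgEquiv e.symm _ _ (Associated.of_eq (by simp [Polynomial.map_sub, Polynomial.map_pow]))
      letI : Algebra (Quiet.RootRing p A (e b)) C :=
        ((algebraMap (Quiet.RootRing p B b) C).comp E.toRingHom).toAlgebra
      haveI : IsScalarTower A (Quiet.RootRing p A (e b)) C := IsScalarTower.of_algebraMap_eq fun x => by
        show _ = algebraMap (Quiet.RootRing p B b) C (E (algebraMap A _ x))
        rw [E.commutes, IsScalarTower.algebraMap_apply A B (Quiet.RootRing p B b),
          ← IsScalarTower.algebraMap_apply B (Quiet.RootRing p B b) C, ← IsScalarTower.algebraMap_apply]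
      exact ⟨e b, ‹_›, ‹_›, isRootTower_congr_base m E.toRingEquiv (fun _ => rfl) h⟩
  | succ n ih =>
    intro m A B C _ _ _ _ _ _ _ h1 h2
    obtain ⟨a, inst, hst, h⟩ := h1
    letI := inst
    haveI := hst
    letI : Algebra (Quiet.RootRing p A a) C :=
      ((algebraMap B C).comp (algebraMap (Quiet.RootRing p A a) B)).toAlgebra
    haveI : IsScalarTower (Quiet.RootRing p A a) B C := IsScalarTower.of_algebraMap_eq fun _ => rfl
    haveI : IsScalarTower A (Quiet.RootRing p A a) C := IsScalarTower.of_algebraMap_eq fun x => by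
      rw [IsScalarTower.algebraMap_apply (Quiet.RootRing p A a) B C, ← IsScalarTower.algebraMap_apply A _ B,
        ← IsScalarTower.algebraMap_apply]
    obtain ⟨k, hk⟩ := ih m h h2
    exact ⟨k + 1, a, ‹_›, ‹_›, hk⟩
attribute [local instance] Algebra.TensorProduct.rightAlgebra in
theorem isPushout_rootRing (A A' : Type u) [CommRing A] [CommRing A'] [Algebra A A'] (a : A)
    (ι : Quiet.RootRing p A a →ₐ[A] Quiet.RootRing p A' (algebraMap A A' a))
    (hι0 : ∀ x, ι (algebraMap A _ x) = algebraMap A _ x)
    (hι : ι (AdjoinRoot.root _) = AdjoinRoot.root _) :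
    letI := ι.toRingHom.toAlgebra
    haveI : IsScalarTower A (Quiet.RootRing p A a) (Quiet.RootRing p A' (algebraMap A A' a)) :=
      IsScalarTower.of_algebraMap_eq fun x => (hι0 x).symm
    Algebra.IsPushout A A' (Quiet.RootRing p A a) (Quiet.RootRing p A' (algebraMap A A' a)) := by
  letI := ι.toRingHom.toAlgebra
  haveI : IsScalarTower A (Quiet.RootRing p A a) (Quiet.RootRing p A' (algebraMap A A' a)) :=
    IsScalarTower.of_algebraMap_eq fun x => (hι0 x).symm
  let a' := algebraMap A A' a
  let R := Quiet.RootRing p A a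
  let R' := Quiet.RootRing p A' a'
  -- `R'` is the base change of `R`
  let Φ : A' ⊗[A] R →ₐ[A'] R' := Algebra.TensorProduct.lift (Algebra.ofId A' R') ι (fun _ _ => Commute.all _ _)
  have hev : eval₂ (Algebra.ofId A' (A' ⊗[A] R)).toRingHom ((1 : A') ⊗ₜ[A] AdjoinRoot.root _)
      (X ^ p - C a' : A'[X]) = 0 := by
    rw [eval₂_sub, eval₂_X_pow, eval₂_C, Algebra.TensorProduct.tmul_pow, one_pow,
      show (AdjoinRoot.root (X ^ p - C a : A[X])) ^ p = algebraMap A R a by
        have h0 := AdjoinRoot.eval₂_root (X ^ p - C a : A[X])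
        rwa [eval₂_sub, eval₂_X_pow, eval₂_C, sub_eq_zero] at h0]
    show _ - (algebraMap A A' a) ⊗ₜ[A] (1 : R) = 0
    rw [Algebra.algebraMap_eq_smul_one, Algebra.algebraMap_eq_smul_one, TensorProduct.smul_tmul, sub_self]
  let Ψ : R' →ₐ[A'] A' ⊗[A] R := AdjoinRoot.liftAlgHom _ (Algebra.ofId A' _) ((1 : A') ⊗ₜ[A] AdjoinRoot.root _) hev
  have hΨ : Ψ (AdjoinRoot.root _) = (1 : A') ⊗ₜ[A] AdjoinRoot.root _ := AdjoinRoot.lift_root hev
  let e : A' ⊗[A] R ≃ₐ[A'] R' := AlgEquiv.ofAlgHom Φ Ψ (AdjoinRoot.algHom_ext (by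
      rw [AlgHom.comp_apply, hΨ, Algebra.TensorProduct.lift_tmul, map_one, one_mul, hι]; rfl))
    (Algebra.TensorProduct.ext (AlgHom.ext fun x => (Ψ.comp Φ).commutes x) (AdjoinRoot.algHom_ext (by
      show Ψ (Φ ((1 : A') ⊗ₜ[A] AdjoinRoot.root _)) = _
      rw [Algebra.TensorProduct.lift_tmul, map_one, one_mul, hι, hΨ]
      rfl)))
  exact Algebra.IsPushout.of_equiv (S' := A' ⊗[A] R) e (RingHom.ext fun x => by
    show Φ ((1 : A') ⊗ₜ[A] x) = ι x
    rw [Algebra.TensorProduct.lift_tmul, map_one, one_mul])

attribute [local instance] Algebra.TensorProduct.rightAlgebra in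
theorem isRootTower_baseChange : ∀ (n : ℕ) {A B A' B' : Type u} [CommRing A] [CommRing B] [CommRing A']
    [CommRing B'] [Algebra A B] [Algebra A A'] [Algebra A B'] [Algebra A' B'] [Algebra B B']
    [IsScalarTower A A' B'] [IsScalarTower A B B'], Algebra.IsPushout A A' B B' →
      Quiet.IsRootTower p n A B → Quiet.IsRootTower p n A' B' := by
  intro n
  induction n with
  | zero =>
    intro A B A' B' _ _ _ _ _ _ _ _ _ _ _ hP h
    obtain ⟨e⟩ := h
    haveI := hP
    refine ⟨(Algebra.IsPushout.equiv A A' B B').symm.trans ?_⟩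
    exact (Algebra.TensorProduct.congr AlgEquiv.refl e).trans (Algebra.TensorProduct.rid A A' A')
  | succ n ih =>
    intro A B A' B' _ _ _ _ _ _ _ _ _ _ _ hP h
    obtain ⟨a, inst, hst, h⟩ := h
    letI := inst
    haveI := hst
    let R := Quiet.RootRing p A a
    let a' := algebraMap A A' a
    let R' := Quiet.RootRing p A' a'
    have hdvd : (X ^ p - C a' : A'[X]) ∣ (X ^ p - C a : A[X]).map (Algebra.ofId A A').toRingHom := by
      rw [Polynomial.map_sub, Polynomial.map_pow, Polynomial.map_X, Polynomial.map_C]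
      exact dvd_rfl
    let ι : R →ₐ[A] R' := AdjoinRoot.mapAlgHom (Algebra.ofId A A') (X ^ p - C a) (X ^ p - C a') hdvd
    letI : Algebra R R' := ι.toRingHom.toAlgebra
    haveI : IsScalarTower A R R' := IsScalarTower.of_algebraMap_eq fun x => (ι.commutes x).symm
    have hι : ι (AdjoinRoot.root _) = AdjoinRoot.root _ := AdjoinRoot.map_root _ _ _ hdvd
    haveI hR : Algebra.IsPushout A A' R R' :=
      isPushout_rootRing A A' a ι (fun x => ι.commutes x) hι
    haveI : Algebra.IsPushout A R A' R' := hR.symm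
    have hev' : eval₂ (algebraMap A' B') (algebraMap B B' (algebraMap R B (AdjoinRoot.root _)))
        (X ^ p - C a' : A'[X]) = 0 := by
      rw [eval₂_sub, eval₂_X_pow, eval₂_C, ← map_pow, ← map_pow,
        show (AdjoinRoot.root (X ^ p - C a : A[X])) ^ p = algebraMap A R a by
          have h0 := AdjoinRoot.eval₂_root (X ^ p - C a : A[X])
          rwa [eval₂_sub, eval₂_X_pow, eval₂_C, sub_eq_zero] at h0,
        ← IsScalarTower.algebraMap_apply A R B, ← IsScalarTower.algebraMap_apply A B B',
        ← IsScalarTower.algebraMap_apply A A' B', sub_self]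
    letI : Algebra R' B' :=
      (AdjoinRoot.lift (algebraMap A' B') (algebraMap B B' (algebraMap R B (AdjoinRoot.root _))) hev').toAlgebra
    haveI : IsScalarTower A' R' B' := IsScalarTower.of_algebraMap_eq fun x => (AdjoinRoot.lift_of hev').symm
    haveI : IsScalarTower A R' B' := IsScalarTower.of_algebraMap_eq fun x => by
      rw [IsScalarTower.algebraMap_apply A A' R', ← IsScalarTower.algebraMap_apply A' R' B',
        ← IsScalarTower.algebraMap_apply]
    letI : Algebra R B' := ((algebraMap B B').comp (algebraMap R B)).toAlgebra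
    haveI : IsScalarTower R B B' := IsScalarTower.of_algebraMap_eq fun _ => rfl
    haveI : IsScalarTower A R B' := IsScalarTower.of_algebraMap_eq fun x => by
      rw [IsScalarTower.algebraMap_apply R B B', ← IsScalarTower.algebraMap_apply A R B,
        ← IsScalarTower.algebraMap_apply]
    haveI : IsScalarTower R R' B' := by
      refine IsScalarTower.of_algebraMap_eq' ?_
      have h2 : (IsScalarTower.toAlgHom A R B' : R →ₐ[A] B') =
          (IsScalarTower.toAlgHom A R' B').comp ι := AdjoinRoot.algHom_ext (by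
        show algebraMap R B' (AdjoinRoot.root _) = algebraMap R' B' (ι (AdjoinRoot.root _))
        rw [hι]
        exact (AdjoinRoot.lift_root hev').symm)
      exact congrArg AlgHom.toRingHom h2
    have h3 : Algebra.IsPushout R B R' B' :=
      (Algebra.IsPushout.comp_iff A R A' (S' := R') (T := B) (T' := B')).1 hP.symm
    exact ⟨a', ‹_›, ‹_›, ih h3.symm h⟩

end Quiet5
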